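import Groth.Agent.L16.TwistFP.Quot
import Groth.Agent.L18.GrMod.QCoh

/-!
# `O(n)` on a chart `D₊(f)` is a module of fractions of degree `n`
-/

set_option autoImplicit false
universe u

open CategoryTheory AlgebraicGeometry TopologicalSpace Opposite

noncomputable section

namespace Groth.L16.TwistFP

open Groth.L18

variable {A σ : Type u} [CommRing A] [SetLike σ A] [AddSubgroupClass σ A] {𝒜 : ℕ → σ} [GradedRing 𝒜]
  {d : ℕ} {n : ℤ} {f : A} (hd : 0 < d) (hf : f ∈ 𝒜 d)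

/-- The global sections of `O(n)` on the chart. -/
abbrev SecMod (n : ℤ) : Type u := Γ(GrM.chartMod (ℳ := 𝒜) n hd hf, ⊤)

lemma exists_PQ {e : ℕ} (h : Cg d n e) : ∃ PQ : ℕ × ℕ, (e : ℤ) + PQ.1 * d = PQ.2 * d + n := by
  obtain ⟨q, hq⟩ := h
  exact ⟨((-q).toNat, q.toNat), by linear_combination hq - (d : ℤ) * Int.toNat_sub_toNat_neg q⟩

lemma pow_mul_mem {e : ℕ} {a : A} (ha : a ∈ 𝒜 e) (P : ℕ) (hf : f ∈ 𝒜 d) : f ^ P * a ∈ 𝒜 (P * d + e) :=
  SetLike.mul_mem_graded (by simpa [smul_eq_mul] using SetLike.pow_mem_graded P hf) ha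

lemma notMem_f (P : ℕ) (x : (Proj.awayι 𝒜 f hf hd ''ᵁ ⊤ : Opens (ProjectiveSpectrum.top 𝒜))) :
    f ^ P ∉ x.1.asHomogeneousIdeal :=
  GrM.notMem_pow ((Proj.mem_basicOpen _ _ _).1 (GrM.image_le hd hf ⊤ x.2)) P

/-- The section `f ^ P * a / f ^ Q`. -/
def fr (P Q e : ℕ) (a : A) (ha : a ∈ 𝒜 e) (hq : (e : ℤ) + P * d = Q * d + n) : SecMod hd hf n :=
  GrM.gen (⟨f ^ P * a, pow_mul_mem ha P hf⟩ : 𝒜 (P * d + e))
    (⟨f ^ Q, by simpa [smul_eq_mul] using SetLike.pow_mem_graded Q hf⟩ : 𝒜 (Q * d))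
    (by push_cast; linarith) (Proj.awayι 𝒜 f hf hd ''ᵁ ⊤) (notMem_f hd hf Q)

lemma fr_val (P Q e : ℕ) (a : A) (ha : a ∈ 𝒜 e) (hq : (e : ℤ) + P * d = Q * d + n) (x) :
    ((GrM.toFun' n hd hf (fr hd hf P Q e a ha hq)).1 x).1 =
      LocalizedModule.mk (f ^ P * a) ⟨f ^ Q, notMem_f hd hf Q x⟩ := rfl

lemma fr_congr (P Q P' Q' e e' : ℕ) (a a' : A) (ha : a ∈ 𝒜 e) (ha' : a' ∈ 𝒜 e')
    (hq : (e : ℤ) + P * d = Q * d + n) (hq' : (e' : ℤ) + P' * d = Q' * d + n)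
    (h : f ^ (Q' + P) * a = f ^ (Q + P') * a') :
    fr hd hf P Q e a ha hq = fr hd hf P' Q' e' a' ha' hq' := by
  refine GrM.sect_ext fun x => (fr_val hd hf P Q e a ha hq x).trans (Eq.trans ?_ (fr_val hd hf P' Q' e' a' ha' hq' x).symm)
  rw [LocalizedModule.mk_eq]
  refine ⟨1, ?_⟩
  simp only [one_smul, Submonoid.smul_def, smul_eq_mul, ← mul_assoc, ← pow_add]
  exact h

lemma fr_indep {P Q P' Q' e : ℕ} (a : A) (ha : a ∈ 𝒜 e) (hq : (e : ℤ) + P * d = Q * d + n)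
    (hq' : (e : ℤ) + P' * d = Q' * d + n) : fr hd hf P Q e a ha hq = fr hd hf P' Q' e a ha hq' := by
  refine fr_congr hd hf _ _ _ _ _ _ _ _ _ _ _ _ ?_
  have h1 : ((Q' + P : ℕ) : ℤ) * d = ((Q + P' : ℕ) : ℤ) * d := by push_cast; linear_combination hq - hq'
  have h2 : Q' + P = Q + P' := by
    exact_mod_cast mul_right_cancel₀ (by exact_mod_cast hd.ne' : (d : ℤ) ≠ 0) h1
  rw [h2]

/-- The chosen section of a numerator. -/
def chartFr (e : ℕ) (a : A) (ha : a ∈ 𝒜 e) (h : Cg d n e) : SecMod hd hf n :=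
  fr hd hf (exists_PQ h).choose.1 (exists_PQ h).choose.2 e a ha (exists_PQ h).choose_spec

lemma chartFr_eq {P Q e : ℕ} (a : A) (ha : a ∈ 𝒜 e) (h : Cg d n e) (hq : (e : ℤ) + P * d = Q * d + n) :
    chartFr hd hf e a ha h = fr hd hf P Q e a ha hq :=
  fr_indep hd hf a ha _ hq

variable (n) in
/-- `O(n)` on `D₊(f)`. -/
def chartFrac : Frac 𝒜 hf n (SecMod hd hf n) where
  frac := chartFr hd hf
  frac_add e a b ha hb h := by
    refine GrM.sect_ext fun x => (fr_val hd hf _ _ _ _ _ _ x).trans (Eq.trans ?_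
      (congrArg₂ (· + ·) (fr_val hd hf _ _ e a ha (exists_PQ h).choose_spec x)
        (fr_val hd hf _ _ e b hb (exists_PQ h).choose_spec x)).symm)
    rw [LocalizedModule.mk_add_mk, LocalizedModule.mk_eq]
    refine ⟨1, ?_⟩
    simp only [one_smul, Submonoid.smul_def, Submonoid.coe_mul, smul_eq_mul]
    ring
  frac_f e a ha h hfa h' := by
    obtain ⟨⟨P, Q⟩, hq⟩ := exists_PQ h
    rw [chartFr_eq hd hf (P := P) (Q := Q + 1) (f * a) hfa h' (by push_cast; linear_combination hq),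
      chartFr_eq hd hf a ha h hq]
    exact fr_congr hd hf _ _ _ _ _ _ _ _ _ _ _ _ (by ring)
  frac_smul k r hr e a ha h hra h' := by
    obtain ⟨⟨P, Q⟩, hq⟩ := exists_PQ h
    rw [chartFr_eq hd hf (P := P) (Q := Q + k) (r * a) hra h' (by push_cast; linear_combination hq),
      chartFr_eq hd hf a ha h hq]
    refine GrM.sect_ext fun x => (fr_val hd hf _ _ _ _ _ _ x).trans ?_
    refine Eq.trans ?_ (GrM.smul_val n hd hf k r hr _ x).symm
    refine Eq.trans ?_ (congrArg (_ • ·) (fr_val hd hf P Q e a ha hq x)).symm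
    rw [LocalizedModule.mk_smul_mk, LocalizedModule.mk_eq]
    refine ⟨1, ?_⟩
    simp only [one_smul, Submonoid.smul_def, Submonoid.coe_mul, smul_eq_mul]
    ring
  frac_eq_zero e a ha h h0 := by
    obtain ⟨⟨P, Q⟩, hq⟩ := exists_PQ h
    rw [chartFr_eq hd hf a ha h hq] at h0
    obtain ⟨j, hj⟩ := GrM.exists_pow_smul_eq_zero (ℳ := 𝒜) (M := A) hd (pow_mul_mem ha P hf) hf fun x hx => by
      have hxW : x ∈ (Proj.awayι 𝒜 f hf hd ''ᵁ ⊤ : Opens (ProjectiveSpectrum.top 𝒜)) := by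
        change x ∈ Proj.awayι 𝒜 f hf hd ''ᵁ ⊤
        rw [Scheme.Hom.image_top_eq_opensRange, Proj.opensRange_awayι]
        exact (Proj.mem_basicOpen _ _ _).2 hx
      have h1 : (LocalizedModule.mk (f ^ P * a) ⟨f ^ Q, notMem_f hd hf Q ⟨x, hxW⟩⟩ : GrMod.LocMod 𝒜 (M := A) x) = 0 :=
        (fr_val hd hf P Q e a ha hq ⟨x, hxW⟩).symm.trans
          (congrArg (fun s => ((GrM.toFun' n hd hf s).1 ⟨x, hxW⟩).1) h0)
      rw [← LocalizedModule.zero_mk 1, LocalizedModule.mk_eq] at h1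
      obtain ⟨c, hc⟩ := h1
      exact ⟨c.1, c.2, by simpa [Submonoid.smul_def] using hc⟩
    have h2 := congrArg (cls f) hj
    rw [smul_eq_mul, cls_pow_mul, cls_pow_mul, map_zero] at h2
    exact h2
  frac_surj s := by
    obtain ⟨K, m, a, ha, hm, hs⟩ := GrM.exists_eq_mk hd hf (U := Proj.awayι 𝒜 f hf hd ''ᵁ ⊤)
      (fun x => by
        change x ∈ Proj.awayι 𝒜 f hf hd ''ᵁ ⊤ ↔ _
        rw [Scheme.Hom.image_top_eq_opensRange, Proj.opensRange_awayι]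
        exact Proj.mem_basicOpen _ _ _) (GrM.toFun' n hd hf s)
    have h : Cg d n m := ⟨K, by rw [hm]; push_cast; ring⟩
    refine ⟨m, a, ha, h, ?_⟩
    rw [chartFr_eq hd hf (P := 0) (Q := K) a ha h (by rw [hm]; push_cast; ring)]
    refine GrM.sect_ext fun x => (fr_val hd hf _ _ _ _ _ _ x).trans (Eq.trans ?_ (hs x).symm)
    simp

end Groth.L16.TwistFP
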