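import Groth.Agent.L16.TwistFP.Chart
import Groth.Agent.L18.RelTilde.Apps
import Groth.Agent.L18.RelTilde.Restrict
import Groth.Agent.L18.RelProj.Props
import Groth.Agent.L16.CohKernel
import Groth.Agent.L19.TildeFP

/-!
# The twisting sheaves of a relative `Proj` are of finite type, and of finite presentation
-/

set_option autoImplicit false

noncomputable section

universe u

open CategoryTheory CategoryTheory.Limits AlgebraicGeometry TopologicalSpace Opposite
open Groth.L18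

namespace Groth.L16.TwistFP

variable {S P : Scheme.{u}} {𝒮 : RelProj.QCGrAlg S} {p : P ⟶ S}
  {chart : ∀ (U : S.Opens) (hU : IsAffineOpen U), (((p ⁻¹ᵁ U : P.Opens) : Scheme.{u}) ≅ Proj (𝒮.deg U hU))} {n : ℤ}
  {L : P.Modules}
  {lam : ∀ (U : S.Opens) (hU : IsAffineOpen U),
    L ⟶ (Scheme.Modules.pushforward (RelProj.emb p chart U hU)).obj (GrTwist.twist (𝒮.deg U hU) n)}

/-- Functions on the base act through the structure map. -/
@[reducible] def strAlg (𝒮 : RelProj.QCGrAlg S) (U : S.Opens) : Algebra Γ(S, U) (𝒮.presheaf.obj (op U)) :=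
  (𝒮.str.app (op U)).hom.toAlgebra

lemma exists_pos_notMem {U : S.Opens} {hU : IsAffineOpen U} (x : ↥(Proj (𝒮.deg U hU))) :
    ∃ (d : ℕ) (f : 𝒮.presheaf.obj (op U)), 0 < d ∧ f ∈ 𝒮.deg U hU d ∧ f ∉ x.asHomogeneousIdeal := by
  classical
  by_contra hc
  push Not at hc
  exact x.not_irrelevant_le ((HomogeneousIdeal.irrelevant_le _).mpr fun i hi b hb => hc i b hi hb)

theorem exists_chart (hL : RelProj.IsRelTwist 𝒮 p chart n L lam) (x : P) :
    ∃ (U : S.affineOpens) (d : ℕ) (f : 𝒮.presheaf.obj (op U.1)) (hd : 0 < d) (hf : f ∈ 𝒮.deg U.1 U.2 d)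
      (j : Spec (.of (HomogeneousLocalization.Away (𝒮.deg U.1 U.2) f)) ⟶ P) (_ : IsOpenImmersion j)
      (N : ModuleCat.{u} (CommRingCat.of (HomogeneousLocalization.Away (𝒮.deg U.1 U.2) f))),
      x ∈ j.opensRange ∧ Nonempty (L.restrict j ≅ tilde N) ∧
        (Module.Finite (HomogeneousLocalization.Away (𝒮.deg U.1 U.2) f) (SecMod (𝒜 := 𝒮.deg U.1 U.2) hd hf n) → Module.Finite (CommRingCat.of (HomogeneousLocalization.Away (𝒮.deg U.1 U.2) f)) N) ∧
        (Module.FinitePresentation (HomogeneousLocalization.Away (𝒮.deg U.1 U.2) f) (SecMod (𝒜 := 𝒮.deg U.1 U.2) hd hf n) → Module.FinitePresentation (CommRingCat.of (HomogeneousLocalization.Away (𝒮.deg U.1 U.2) f)) N) := by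
  have hF := RelTilde.isRel_of_isRelTwist hL
  obtain ⟨⟨U, hU⟩, y, rfl⟩ := RelTilde.Data.exists_emb p chart x
  obtain ⟨d, f, hd, hf, hfy⟩ := exists_pos_notMem y
  let e := RelProj.emb p chart U hU
  let j := Proj.awayι (𝒮.deg U hU) f hf hd
  let N := GrM.chartMod (ℳ := 𝒮.deg U hU) n hd hf
  haveI := (isIso_fromTildeΓ_iff_isLocalizing N).2 (GrM.isLocalizing_chartMod (ℳ := 𝒮.deg U hU) (n := n) hd hf)
  obtain ⟨z, hz⟩ := (Proj.opensRange_awayι (𝒮.deg U hU) f hf hd).ge
    ((Proj.mem_basicOpen _ _ _).2 hfy : (y : Proj (𝒮.deg U hU)) ∈ _)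
  refine ⟨⟨U, hU⟩, d, f, hd, hf, j ≫ e, inferInstance, _, ⟨z, ?_⟩, ⟨(Scheme.Modules.restrictFunctorComp j e).app L ≪≫
      (Scheme.Modules.restrictFunctor j).mapIso (RelTilde.Data.resIso hF U hU) ≪≫
      (asIso (Scheme.Modules.fromTildeΓ (R := .of (HomogeneousLocalization.Away (𝒮.deg U hU) f)) N)).symm⟩,
    fun h => h, fun h => h⟩
  change e.base (j.base z) = _
  rw [hz]

/-- `O(n)` is coherent when the algebra is of finite type. -/
theorem isCoh_relTwist (hft : ∀ (U : S.Opens), IsAffineOpen U → (𝒮.str.app (op U)).hom.FiniteType)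
    (hL : RelProj.IsRelTwist 𝒮 p chart n L lam) : Coh.IsCoh L := by
  refine Groth.L16.CohKernel.isCoh_of_tilde_charts _ fun x => ?_
  obtain ⟨⟨U, hU⟩, d, f, hd, hf, j, hj, N, hx, hN, hfin, -⟩ := exists_chart hL x
  let _ := strAlg 𝒮 U
  refine ⟨_, j, hj, N, hx, hfin ?_, hN⟩
  exact (chartFrac n hd hf).finite hd (finite_C (R := Γ(S, U)) (𝒮.deg U hU) f (𝒮.str_mem U hU) hf hd (hft U hU))

/-- `O(n)` is finitely presented when the algebra is. -/
theorem isFP_relTwist (hfp : ∀ (U : S.Opens), IsAffineOpen U → (𝒮.str.app (op U)).hom.FinitePresentation)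
    (hL : RelProj.IsRelTwist 𝒮 p chart n L lam) : CohB1.IsFP L := by
  refine Groth.L19.isFP_of_tilde_charts _ fun x => ?_
  obtain ⟨⟨U, hU⟩, d, f, hd, hf, j, hj, N, hx, hN, -, hfpN⟩ := exists_chart hL x
  let _ := strAlg 𝒮 U
  refine ⟨_, j, hj, N, hx, hfpN ?_, hN⟩
  exact (chartFrac n hd hf).finitePresentation hd
    (finitePresentation_C (R := Γ(S, U)) (𝒮.deg U hU) f (𝒮.str_mem U hU) hf hd (hfp U hU))

/-- A finitely presented algebra has a finitely presented `Proj`. -/
theorem finitePresentation_relProj (hP : RelProj.IsRelProj 𝒮 p chart)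
    (hfp : ∀ (U : S.Opens), IsAffineOpen U → (𝒮.str.app (op U)).hom.FinitePresentation) :
    LocallyOfFinitePresentation p ∧ QuasiCompact p ∧ QuasiSeparated p := by
  have := RP.isSeparated hP
  refine ⟨RP.property_of_local hP @LocallyOfFinitePresentation fun U hU => ?_,
    (RP.finiteType hP fun U hU => RingHom.FiniteType.of_finitePresentation (hfp U hU)).2, inferInstance⟩
  let _ := strAlg 𝒮 U
  haveI : LocallyOfFinitePresentation (RP.projπ 𝒮 U hU) := by
    rw [IsZariskiLocalAtSource.iff_of_openCover (P := @LocallyOfFinitePresentation)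
      (Proj.affineOpenCover (𝒮.deg U hU)).openCover]
    rintro ⟨i, s, hs⟩
    change LocallyOfFinitePresentation (Proj.awayι (𝒮.deg U hU) s hs i.2 ≫
      Proj.toSpecZero (𝒮.deg U hU) ≫ Spec.map (𝒮.strZero U hU))
    rw [Proj.awayι_toSpecZero_assoc, ← Spec.map_comp,
      HasRingHomProperty.Spec_iff (P := @LocallyOfFinitePresentation)]
    exact finitePresentation_away (R := Γ(S, U)) (𝒮.deg U hU) s (𝒮.str_mem U hU) i.2 hs (hfp U hU)
  unfold RP.projBase
  exact MorphismProperty.comp_mem _ _ _ this inferInstance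

end Groth.L16.TwistFP
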