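import Mathlib.RingTheory.GradedAlgebra.HomogeneousLocalization
import Mathlib.RingTheory.FinitePresentation
import Mathlib.RingTheory.Finiteness.ModuleFinitePresentation
import Mathlib.RingTheory.IntegralClosure.IsIntegralClosure.Basic

/-!
# Degree parts of `A_f` as summands of `A ⧸ (f - 1)`

For a graded ring `A` and `f` homogeneous of degree `d`, the ring `C = A ⧸ (f - 1)` is integral over `A_(f)`,
and a module whose elements are fractions `a / f ^ k` of degree `n` is a direct summand of `C`.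
-/

set_option autoImplicit false
universe u v

noncomputable section

namespace Groth.L16.TwistFP

open HomogeneousLocalization

variable {A σ : Type u} [CommRing A] [SetLike σ A] [AddSubgroupClass σ A] (𝒜 : ℕ → σ) [GradedRing 𝒜]
  {d : ℕ} {f : A}

variable (f) in
/-- `A ⧸ (f - 1)`. -/
abbrev C : Type u := A ⧸ Ideal.span {f - 1}

variable (f) in
/-- The projection to `A ⧸ (f - 1)`. -/
abbrev cls : A →+* C f := Ideal.Quotient.mk _

lemma cls_f : cls f f = 1 := by
  rw [← map_one (cls f)]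
  exact (Ideal.Quotient.eq).2 (Ideal.subset_span rfl)

lemma cls_pow_mul (k : ℕ) (a : A) : cls f (f ^ k * a) = cls f a := by
  rw [map_mul, map_pow, cls_f, one_pow, one_mul]

variable (f) in
/-- The degree-`0` part of `A_f` maps to `A ⧸ (f - 1)`. -/
def ψ : Away 𝒜 f →+* C f :=
  (IsLocalization.Away.lift (S := Localization.Away f) f
    (g := cls f) (by rw [cls_f]; exact isUnit_one)).comp (algebraMap _ _)

lemma ψ_mk (hf : f ∈ 𝒜 d) (k : ℕ) (a : A) (ha : a ∈ 𝒜 (k • d)) :
    ψ 𝒜 f (Away.mk 𝒜 hf k a ha) = cls f a := by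
  have h : (algebraMap (Away 𝒜 f) (Localization.Away f) (Away.mk 𝒜 hf k a ha)) *
      algebraMap A (Localization.Away f) (f ^ k) = algebraMap A (Localization.Away f) a := by
    rw [HomogeneousLocalization.algebraMap_apply, Away.val_mk, Localization.mk_eq_mk']
    exact IsLocalization.mk'_spec (Localization (Submonoid.powers f)) a (⟨f ^ k, k, rfl⟩ : Submonoid.powers f)
  have h2 := congrArg (IsLocalization.Away.lift (S := Localization.Away f) f
    (g := cls f) (by rw [cls_f]; exact isUnit_one)) h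
  rw [map_mul, IsLocalization.Away.lift_eq, IsLocalization.Away.lift_eq, map_pow] at h2
  simp only [cls_f, one_pow, mul_one] at h2
  exact h2

instance : Algebra (Away 𝒜 f) (C f) := (ψ 𝒜 f).toAlgebra

lemma isIntegral_C (hf : f ∈ 𝒜 d) (hd : 0 < d) : Algebra.IsIntegral (Away 𝒜 f) (C f) := by
  refine ⟨fun c => ?_⟩
  obtain ⟨a, rfl⟩ := Ideal.Quotient.mk_surjective c
  induction a using DirectSum.Decomposition.inductionOn 𝒜 with
  | zero => rw [map_zero]; exact isIntegral_zero
  | homogeneous x =>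
    rename_i e
    have hx : x.1 ^ d ∈ 𝒜 (e • d) := by
      simpa [smul_eq_mul, mul_comm] using SetLike.pow_mem_graded d x.2
    refine IsIntegral.of_pow hd ?_
    rw [← map_pow, ← ψ_mk 𝒜 hf e _ hx]
    exact isIntegral_algebraMap
  | add a b ha hb => rw [map_add]; exact ha.add hb

section Alg

variable (f) {R : Type u} [CommRing R] [Algebra R A] (hR : ∀ r : R, algebraMap R A r ∈ 𝒜 0)

/-- The structure map into degree `0`. -/
def toZero : R →+* 𝒜 0 where
  toFun r := ⟨algebraMap R A r, hR r⟩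
  map_one' := Subtype.ext (map_one _)
  map_mul' a b := Subtype.ext (map_mul _ a b)
  map_zero' := Subtype.ext (map_zero _)
  map_add' a b := Subtype.ext (map_add _ a b)

/-- `A_(f)` as an algebra over the base. -/
@[reducible] def awayAlg : Algebra R (Away 𝒜 f) :=
  ((fromZeroRingHom 𝒜 _).comp (toZero 𝒜 hR)).toAlgebra

lemma isScalarTower_C : letI := awayAlg 𝒜 f hR; IsScalarTower R (Away 𝒜 f) (C f) := by
  let _ := awayAlg 𝒜 f hR
  refine IsScalarTower.of_algebraMap_eq fun r => ?_
  change cls f (algebraMap R A r) = ψ 𝒜 f (fromZeroRingHom 𝒜 _ (toZero 𝒜 hR r))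
  refine Eq.symm (((IsLocalization.Away.lift (S := Localization.Away f) f
    (g := cls f) (by rw [cls_f]; exact isUnit_one)).congr_arg ?_).trans (IsLocalization.Away.lift_eq (S := Localization.Away f) f _ _))
  rw [HomogeneousLocalization.algebraMap_apply]
  exact (Localization.mk_one_eq_algebraMap _)

lemma finiteType_away (hf : f ∈ 𝒜 d) (hft : Algebra.FiniteType R A) :
    letI := awayAlg 𝒜 f hR; Algebra.FiniteType R (Away 𝒜 f) := by
  let _ := awayAlg 𝒜 f hR
  have hcomp : ((algebraMap (𝒜 0) A).comp (toZero 𝒜 hR)).FiniteType :=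
    show (algebraMap R A).FiniteType from RingHom.finiteType_algebraMap.mpr hft
  haveI : Algebra.FiniteType (𝒜 0) A :=
    RingHom.finiteType_algebraMap.mp (RingHom.FiniteType.of_comp_finiteType hcomp)
  have h0 : (toZero 𝒜 hR).FiniteType := by
    have e : (GradedRing.projZeroRingHom' 𝒜).comp (algebraMap R A) = toZero 𝒜 hR :=
      RingHom.ext fun r => GradedRing.projZeroRingHom'_apply_coe (𝒜 := 𝒜) (toZero 𝒜 hR r)
    rw [← e]
    exact (RingHom.FiniteType.of_surjective _ (GradedRing.projZeroRingHom'_surjective _)).comp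
      (RingHom.finiteType_algebraMap.mpr hft)
  have h1 : (fromZeroRingHom 𝒜 (Submonoid.powers f)).FiniteType :=
    RingHom.finiteType_algebraMap.mpr (Away.finiteType f d hf)
  exact RingHom.finiteType_algebraMap.mp (h1.comp h0)

include hR in
lemma finite_C (hf : f ∈ 𝒜 d) (hd : 0 < d) (hft : Algebra.FiniteType R A) : Module.Finite (Away 𝒜 f) (C f) := by
  let _ := awayAlg 𝒜 f hR
  have := isScalarTower_C 𝒜 f hR
  have := isIntegral_C 𝒜 hf hd
  have : Algebra.FiniteType R (C f) := hft.of_surjective (Ideal.Quotient.mkₐ R _) Ideal.Quotient.mk_surjective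
  have : Algebra.FiniteType (Away 𝒜 f) (C f) := Algebra.FiniteType.of_restrictScalars_finiteType R _ _
  exact Algebra.IsIntegral.finite

include hR in
lemma finitePresentation_C (hf : f ∈ 𝒜 d) (hd : 0 < d) (hfp : Algebra.FinitePresentation R A) :
    Module.FinitePresentation (Away 𝒜 f) (C f) := by
  let _ := awayAlg 𝒜 f hR
  have := isScalarTower_C 𝒜 f hR
  have := finiteType_away 𝒜 f hR hf inferInstance
  have := finite_C 𝒜 f hR hf hd inferInstance
  have : Algebra.FinitePresentation R (C f) := hfp.quotient ⟨{f - 1}, by simp⟩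
  have : Algebra.FinitePresentation (Away 𝒜 f) (C f) :=
    Algebra.FinitePresentation.of_restrict_scalars_finitePresentation R _ _
  exact Module.FinitePresentation.of_finite_of_finitePresentation _ _

end Alg

section Summand

variable (d)

/-- Congruence of a degree to `n` modulo `d`. -/
def Cg (n : ℤ) (e : ℕ) : Prop := (d : ℤ) ∣ (e : ℤ) - n

variable {d} {n : ℤ}

lemma cg_add {e k : ℕ} : Cg d n (k * d + e) ↔ Cg d n e := by
  unfold Cg
  push_cast
  rw [show (k : ℤ) * d + e - n = k * d + (e - n) by ring]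
  exact dvd_add_right (Dvd.intro_left _ rfl)

/-- A module of fractions of degree `n`. -/
structure Frac (hf : f ∈ 𝒜 d) (n : ℤ) (N : Type v) [AddCommGroup N] [Module (Away 𝒜 f) N] where
  /-- the fraction with numerator `a` -/
  frac : ∀ (e : ℕ) (a : A), a ∈ 𝒜 e → Cg d n e → N
  frac_add : ∀ (e : ℕ) (a b : A) (ha : a ∈ 𝒜 e) (hb : b ∈ 𝒜 e) (h : Cg d n e),
    frac e (a + b) (add_mem ha hb) h = frac e a ha h + frac e b hb h
  frac_f : ∀ (e : ℕ) (a : A) (ha : a ∈ 𝒜 e) (h : Cg d n e) (hfa : f * a ∈ 𝒜 (d + e)) (h' : Cg d n (d + e)),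
    frac (d + e) (f * a) hfa h' = frac e a ha h
  frac_smul : ∀ (k : ℕ) (r : A) (hr : r ∈ 𝒜 (k • d)) (e : ℕ) (a : A) (ha : a ∈ 𝒜 e) (h : Cg d n e)
    (hra : r * a ∈ 𝒜 (k * d + e)) (h' : Cg d n (k * d + e)),
    frac (k * d + e) (r * a) hra h' = Away.mk 𝒜 hf k r hr • frac e a ha h
  frac_eq_zero : ∀ (e : ℕ) (a : A) (ha : a ∈ 𝒜 e) (h : Cg d n e), frac e a ha h = 0 → cls f a = 0
  frac_surj : ∀ s : N, ∃ (e : ℕ) (a : A) (ha : a ∈ 𝒜 e) (h : Cg d n e), frac e a ha h = s

variable {𝒜} {hf : f ∈ 𝒜 d} {N : Type v} [AddCommGroup N] [Module (Away 𝒜 f) N] (F : Frac 𝒜 hf n N)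

namespace Frac

lemma congr {e e' : ℕ} (he : e = e') {a a' : A} (hae : a = a') (ha : a ∈ 𝒜 e) (ha' : a' ∈ 𝒜 e') (h : Cg d n e)
    (h' : Cg d n e') : F.frac e a ha h = F.frac e' a' ha' h' := by
  subst he; subst hae; rfl

lemma frac_zero (e : ℕ) (h : Cg d n e) : F.frac e 0 (zero_mem _) h = 0 := by
  have := F.frac_add e 0 0 (zero_mem _) (zero_mem _) h
  rw [F.congr rfl (add_zero (0 : A)) (add_mem (zero_mem _) (zero_mem _)) (zero_mem _) h h] at this
  exact left_eq_add.1 this

lemma frac_pow (j : ℕ) (e : ℕ) (a : A) (ha : a ∈ 𝒜 e) (h : Cg d n e) (hja : f ^ j * a ∈ 𝒜 (j * d + e)) :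
    F.frac (j * d + e) (f ^ j * a) hja (cg_add.2 h) = F.frac e a ha h := by
  induction j with
  | zero => exact F.congr (by simp) (by simp) _ _ _ _
  | succ j ih =>
    have hj : f ^ j * a ∈ 𝒜 (j * d + e) :=
      SetLike.mul_mem_graded (by simpa [smul_eq_mul] using SetLike.pow_mem_graded j hf) ha
    rw [← ih hj]
    refine Eq.trans ?_ (F.frac_f _ _ hj (cg_add.2 h) (SetLike.mul_mem_graded hf hj)
      (by simpa [add_comm] using (cg_add (k := 1) (e := j * d + e)).2 (cg_add.2 h)))
    exact F.congr (by ring) (by ring) _ _ _ _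

lemma cls_eq (hd : 0 < d) {e e' : ℕ} {a a' : A} {ha : a ∈ 𝒜 e} {ha' : a' ∈ 𝒜 e'} {h : Cg d n e} {h' : Cg d n e'}
    (heq : F.frac e a ha h = F.frac e' a' ha' h') : cls f a = cls f a' := by
  obtain ⟨q, hq⟩ : (d : ℤ) ∣ (e' : ℤ) - e := by
    have := dvd_sub h' h
    rwa [show (e' : ℤ) - n - (e - n) = e' - e by ring] at this
  have hjj : q.toNat * d + e = (-q).toNat * d + e' := by
    have h1 := Int.toNat_sub_toNat_neg q
    have : ((q.toNat * d + e : ℕ) : ℤ) = (((-q).toNat * d + e' : ℕ) : ℤ) := by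
      push_cast
      linear_combination (d : ℤ) * h1 - hq
    exact_mod_cast this
  have hm : ∀ (j : ℕ) {e : ℕ} {a : A}, a ∈ 𝒜 e → f ^ j * a ∈ 𝒜 (j * d + e) := fun j _ _ ha =>
    SetLike.mul_mem_graded (by simpa [smul_eq_mul] using SetLike.pow_mem_graded j hf) ha
  have h2 : f ^ q.toNat * a - f ^ (-q).toNat * a' ∈ 𝒜 (q.toNat * d + e) :=
    sub_mem (hm _ ha) (hjj ▸ hm _ ha')
  have h3 := F.frac_add (q.toNat * d + e) (f ^ q.toNat * a - f ^ (-q).toNat * a') (f ^ (-q).toNat * a') h2
    (hjj ▸ hm _ ha') (cg_add.2 h)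
  rw [F.congr rfl (sub_add_cancel _ _) _ (hm _ ha) _ (cg_add.2 h), F.frac_pow _ _ _ ha h,
    F.congr hjj rfl (hjj ▸ hm _ ha') (hm _ ha') (cg_add.2 h) (cg_add.2 h'), F.frac_pow _ _ _ ha' h', heq] at h3
  have h4 := F.frac_eq_zero _ _ _ _ (add_eq_right.1 h3.symm)
  rwa [map_sub, sub_eq_zero, cls_pow_mul, cls_pow_mul] at h4

open Classical in
/-- The component map. -/
def comp (e : ℕ) : 𝒜 e →+ N :=
  if h : Cg d n e then
    AddMonoidHom.mk' (fun a => F.frac e a.1 a.2 h) fun a b => F.frac_add e a.1 b.1 a.2 b.2 h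
  else 0

open Classical in
lemma comp_pos {e : ℕ} (h : Cg d n e) (a : 𝒜 e) : F.comp e a = F.frac e a.1 a.2 h := by
  simp [comp, h]

open Classical in
lemma comp_neg {e : ℕ} (h : ¬ Cg d n e) (a : 𝒜 e) : F.comp e a = 0 := by
  simp [comp, h]

/-- The total map. -/
def total : A →+ N :=
  (DirectSum.toAddMonoid F.comp).comp (DirectSum.decomposeAddEquiv 𝒜).toAddMonoidHom

lemma total_of_mem {e : ℕ} {a : A} (ha : a ∈ 𝒜 e) : F.total a = F.comp e ⟨a, ha⟩ := by
  simp only [total, AddMonoidHom.coe_comp, Function.comp_apply, AddEquiv.coe_toAddMonoidHom,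
    DirectSum.decomposeAddEquiv_apply, DirectSum.decompose_of_mem 𝒜 ha, DirectSum.toAddMonoid_of]

lemma total_mul_homog (k : ℕ) (r : A) (hr : r ∈ 𝒜 (k • d)) (a : A) :
    F.total (r * a) = Away.mk 𝒜 hf k r hr • F.total a := by
  induction a using DirectSum.Decomposition.inductionOn 𝒜 with
  | zero => simp
  | homogeneous x =>
    rename_i e
    have hr' : r ∈ 𝒜 (k * d) := by simpa [smul_eq_mul] using hr
    have hra : r * x.1 ∈ 𝒜 (k * d + e) := SetLike.mul_mem_graded hr' x.2
    rw [F.total_of_mem hra, F.total_of_mem x.2]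
    by_cases h : Cg d n e
    · rw [F.comp_pos (cg_add.2 h), F.comp_pos h]
      exact F.frac_smul k r hr e x.1 x.2 h hra (cg_add.2 h)
    · rw [F.comp_neg fun h' => h (cg_add.1 h'), F.comp_neg h, smul_zero]
  | add a b ha hb => rw [mul_add, map_add, ha, hb, map_add, smul_add]

lemma total_f (a : A) : F.total (f * a) = F.total a := by
  induction a using DirectSum.Decomposition.inductionOn 𝒜 with
  | zero => simp
  | homogeneous x =>
    rename_i e
    have hfa : f * x.1 ∈ 𝒜 (d + e) := SetLike.mul_mem_graded hf x.2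
    have hiff : Cg d n (d + e) ↔ Cg d n e := by simpa using cg_add (k := 1) (e := e) (d := d) (n := n)
    rw [F.total_of_mem hfa, F.total_of_mem x.2]
    by_cases h : Cg d n e
    · rw [F.comp_pos (hiff.2 h), F.comp_pos h]
      exact F.frac_f e x.1 x.2 h hfa (hiff.2 h)
    · rw [F.comp_neg fun h' => h (hiff.1 h'), F.comp_neg h]
  | add a b ha hb => rw [mul_add, map_add, ha, hb, map_add]

/-- The retraction. -/
def π : C f →ₗ[Away 𝒜 f] N where
  toFun := QuotientAddGroup.lift (Ideal.span {f - 1}).toAddSubgroup F.total (by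
    intro x hx
    obtain ⟨c, rfl⟩ := Ideal.mem_span_singleton'.1 hx
    rw [AddMonoidHom.mem_ker, mul_sub, mul_one, map_sub, mul_comm, F.total_f, sub_self])
  map_add' := map_add _
  map_smul' r c := by
    obtain ⟨k, a, ha, rfl⟩ := Away.mk_surjective 𝒜 hf r
    obtain ⟨x, rfl⟩ := Ideal.Quotient.mk_surjective c
    rw [Algebra.smul_def, RingHom.algebraMap_toAlgebra, ψ_mk 𝒜 hf, ← map_mul]
    exact F.total_mul_homog k a ha x

lemma π_cls {e : ℕ} {a : A} (ha : a ∈ 𝒜 e) (h : Cg d n e) : F.π (cls f a) = F.frac e a ha h :=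
  (F.total_of_mem ha).trans (F.comp_pos h _)

/-- The section. -/
lemma exists_section (hd : 0 < d) : ∃ i : N →ₗ[Away 𝒜 f] C f, F.π.comp i = LinearMap.id := by
  choose e a ha hc hs using F.frac_surj
  have uniq : ∀ {e' : ℕ} {a' : A} (ha' : a' ∈ 𝒜 e') (h' : Cg d n e'),
      cls f (a (F.frac e' a' ha' h')) = cls f a' := fun ha' h' => F.cls_eq hd (hs _)
  let i : N →ₗ[Away 𝒜 f] C f :=
    { toFun := fun s => cls f (a s)
      map_add' := fun s t => by
        obtain ⟨q, hq⟩ : (d : ℤ) ∣ (e t : ℤ) - e s := by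
          have := dvd_sub (hc t) (hc s)
          rwa [show (e t : ℤ) - n - (e s - n) = e t - e s by ring] at this
        have hjj : q.toNat * d + e s = (-q).toNat * d + e t := by
          have h1 := Int.toNat_sub_toNat_neg q
          have : ((q.toNat * d + e s : ℕ) : ℤ) = (((-q).toNat * d + e t : ℕ) : ℤ) := by
            push_cast
            linear_combination (d : ℤ) * h1 - hq
          exact_mod_cast this
        have h1 : f ^ q.toNat * a s ∈ 𝒜 (q.toNat * d + e s) :=
          SetLike.mul_mem_graded (by simpa [smul_eq_mul] using SetLike.pow_mem_graded q.toNat hf) (ha s)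
        have h2 : f ^ (-q).toNat * a t ∈ 𝒜 ((-q).toNat * d + e t) :=
          SetLike.mul_mem_graded (by simpa [smul_eq_mul] using SetLike.pow_mem_graded (-q).toNat hf) (ha t)
        have h3 := F.frac_add _ _ _ h1 (hjj ▸ h2) (cg_add.2 (hc s))
        rw [F.frac_pow _ _ _ (ha s) (hc s), F.congr hjj rfl (hjj ▸ h2) h2 (cg_add.2 (hc s)) (cg_add.2 (hc t)),
          F.frac_pow _ _ _ (ha t) (hc t), hs, hs] at h3
        have h4 := uniq (add_mem h1 (hjj ▸ h2)) (cg_add.2 (hc s))
        rw [h3] at h4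
        simpa [cls_pow_mul] using h4
      map_smul' := fun r s => by
        obtain ⟨k, x, hx, rfl⟩ := Away.mk_surjective 𝒜 hf r
        have hx' : x ∈ 𝒜 (k * d) := by simpa [smul_eq_mul] using hx
        have h4 := uniq (SetLike.mul_mem_graded hx' (ha s)) (cg_add.2 (hc s))
        rw [F.frac_smul k x hx _ _ (ha s) (hc s), hs] at h4
        rw [RingHom.id_apply, Algebra.smul_def, RingHom.algebraMap_toAlgebra, ψ_mk 𝒜 hf, h4, map_mul] }
  exact ⟨i, LinearMap.ext fun s => (F.π_cls (ha s) (hc s)).trans (hs s)⟩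

include F in
theorem finite (hd : 0 < d) (h : Module.Finite (Away 𝒜 f) (C f)) : Module.Finite (Away 𝒜 f) N := by
  obtain ⟨i, hi⟩ := F.exists_section hd
  exact Module.Finite.of_surjective F.π fun s => ⟨i s, LinearMap.congr_fun hi s⟩

include F in
theorem finitePresentation (hd : 0 < d) (h : Module.FinitePresentation (Away 𝒜 f) (C f)) :
    Module.FinitePresentation (Away 𝒜 f) N := by
  obtain ⟨i, hi⟩ := F.exists_section hd
  refine Module.finitePresentation_of_surjective F.π (fun s => ⟨i s, LinearMap.congr_fun hi s⟩) ?_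
  have : LinearMap.ker F.π = LinearMap.range (LinearMap.id - i.comp F.π) := by
    refine le_antisymm (fun x hx => ⟨x, by simp [LinearMap.mem_ker.1 hx]⟩) ?_
    rintro _ ⟨x, rfl⟩
    have := LinearMap.congr_fun hi (F.π x)
    simp only [LinearMap.comp_apply, LinearMap.id_apply] at this
    simp [this]
  rw [this]
  exact LinearMap.range_eq_map (LinearMap.id - i.comp F.π) ▸ (Module.Finite.fg_top.map _)

end Frac

lemma div_smul_mem {e : ℕ} (h : Cg d 0 e) {a : A} (ha : a ∈ 𝒜 e) : a ∈ 𝒜 ((e / d) • d) := by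
  have h1 : (d : ℤ) ∣ (e : ℤ) - 0 := h
  rw [sub_zero] at h1
  rwa [smul_eq_mul, Nat.div_mul_cancel (Int.natCast_dvd_natCast.1 h1)]

/-- `A_(f)` itself. -/
def awayFrac (hd : 0 < d) (hf : f ∈ 𝒜 d) : Frac 𝒜 hf 0 (Away 𝒜 f) where
  frac e a ha h := Away.mk 𝒜 hf (e / d) a (by
    exact div_smul_mem h ha)
  frac_add e a b ha hb h := val_injective _ (by simp [Away.val_mk, Localization.add_mk_self])
  frac_f e a ha h hfa h' := val_injective _ (by
    simp only [Away.val_mk, Nat.add_div_left e hd, pow_succ]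
    exact Localization.mk_eq_mk_iff.2 (Localization.r_iff_exists.2 ⟨1, by simp; ring⟩))
  frac_smul k r hr e a ha h hra h' := val_injective _ (by
    simp only [smul_eq_mul, val_mul, Away.val_mk, Localization.mk_mul]
    congr 1
    exact Subtype.ext (by
      simp [Nat.mul_comm k d, Nat.mul_add_div hd, pow_add]))
  frac_eq_zero e a ha h h0 := by
    rw [← ψ_mk 𝒜 hf (e / d) a (div_smul_mem h ha), h0, map_zero]
  frac_surj s := by
    obtain ⟨k, a, ha, rfl⟩ := Away.mk_surjective 𝒜 hf s
    refine ⟨k * d, a, by simpa [smul_eq_mul] using ha, by simp [Cg], ?_⟩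
    refine val_injective _ ?_
    simp only [Away.val_mk, Nat.mul_div_cancel k hd]

variable (𝒜) (f) in
theorem finitePresentation_away {R : Type u} [CommRing R] [Algebra R A] (hR : ∀ r : R, algebraMap R A r ∈ 𝒜 0)
    (hd : 0 < d) (hf : f ∈ 𝒜 d) (hfp : Algebra.FinitePresentation R A) :
    letI := awayAlg 𝒜 f hR; Algebra.FinitePresentation R (Away 𝒜 f) := by
  let _ := awayAlg 𝒜 f hR
  have := isScalarTower_C 𝒜 f hR
  obtain ⟨m, φ, hφ⟩ := Algebra.FiniteType.iff_quotient_mvPolynomial''.1 (finiteType_away 𝒜 f hR hf inferInstance)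
  let _ := φ.toRingHom.toAlgebra
  have : IsScalarTower R (MvPolynomial (Fin m) R) (Away 𝒜 f) := .of_algebraMap_eq' φ.comp_algebraMap.symm
  let _ : Algebra (MvPolynomial (Fin m) R) (C f) := ((ψ 𝒜 f).comp φ.toRingHom).toAlgebra
  have : IsScalarTower (MvPolynomial (Fin m) R) (Away 𝒜 f) (C f) := .of_algebraMap_eq fun _ => rfl
  have : IsScalarTower R (MvPolynomial (Fin m) R) (C f) := .of_algebraMap_eq fun r => by
    refine (IsScalarTower.algebraMap_apply R (Away 𝒜 f) (C f) r).trans ?_
    exact congrArg (ψ 𝒜 f) (φ.commutes r).symm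
  have : Module.Finite (MvPolynomial (Fin m) R) (Away 𝒜 f) :=
    Module.Finite.of_surjective (Algebra.linearMap _ _) hφ
  have := finite_C 𝒜 f hR hf hd inferInstance
  have : Module.Finite (MvPolynomial (Fin m) R) (C f) := Module.Finite.trans (Away 𝒜 f) _
  have : Algebra.FinitePresentation R (C f) := hfp.quotient ⟨{f - 1}, by simp⟩
  have : Algebra.FinitePresentation (MvPolynomial (Fin m) R) (C f) :=
    Algebra.FinitePresentation.of_restrict_scalars_finitePresentation R _ _
  have := Module.FinitePresentation.of_finite_of_finitePresentation (MvPolynomial (Fin m) R) (C f)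
  obtain ⟨i, hi⟩ := (awayFrac hd hf).exists_section hd
  let π' := (awayFrac hd hf).π.restrictScalars (MvPolynomial (Fin m) R)
  let i' := i.restrictScalars (MvPolynomial (Fin m) R)
  have hfpP : Module.FinitePresentation (MvPolynomial (Fin m) R) (Away 𝒜 f) := by
    refine Module.finitePresentation_of_surjective π' (fun s => ⟨i s, LinearMap.congr_fun hi s⟩) ?_
    have : LinearMap.ker π' = LinearMap.range (LinearMap.id - i'.comp π') := by
      refine le_antisymm (fun x hx => ⟨x, by simp [LinearMap.mem_ker.1 hx]⟩) ?_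
      rintro _ ⟨x, rfl⟩
      have := LinearMap.congr_fun hi ((awayFrac hd hf).π x)
      simp only [LinearMap.comp_apply, LinearMap.id_apply] at this
      simp [π', i', this]
    rw [this]
    exact LinearMap.range_eq_map (LinearMap.id - i'.comp π') ▸ (Module.Finite.fg_top.map _)
  exact Algebra.FinitePresentation.of_surjective hφ
    (Module.FinitePresentation.fg_ker (Algebra.linearMap (MvPolynomial (Fin m) R) (Away 𝒜 f)) hφ)

end Summand

end Groth.L16.TwistFP
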